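import Cfsg.Agent.Lib.Fi23Plus.FStar
import Cfsg.Agent.Lib.SporPerm.McLModel
import Cfsg.Agent.S2073

/-!
The conclusions of the 3-local characterisations of McLaughlin's group from a subgroup of index
at most two isomorphic to it.
-/

set_option autoImplicit false

namespace Cfsg.Agent.McLThreeWrap

open Subgroup

section generic

variable {N : Type*} [Group N] [Finite N]

theorem center_bot (hs : IsSimpleGroup N) (hnc : ∃ x y : N, ¬ Commute x y) : center N = ⊥ := by
  haveI := hs
  refine (Normal.eq_bot_or_eq_top inferInstance).resolve_right fun h => ?_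
  obtain ⟨x, y, hxy⟩ := hnc
  exact hxy ((mem_center_iff.1 (h ▸ mem_top x) y).symm)

theorem card_mulAut (hs : IsSimpleGroup N) (hnc : ∃ x y : N, ¬ Commute x y)
    (hout : Nat.card (Cfsg.Out N) = 2) : Nat.card (MulAut N) = 2 * Nat.card N := by
  rw [← hout, card_eq_card_quotient_mul_card_subgroup (Cfsg.Inn N)]
  congr 1
  refine (Nat.card_congr (MonoidHom.ofInjective (f := (MulAut.conj : N →* MulAut N)) ?_).toEquiv).symm
  refine (injective_iff_map_eq_one _).2 fun g hg => ?_
  rw [← mem_bot, ← center_bot hs hnc, mem_center_iff]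
  intro x
  have h2 := DFunLike.congr_fun hg x
  rw [MulAut.one_apply, MulAut.conj_apply] at h2
  exact (mul_inv_eq_iff_eq_mul.1 h2).symm

variable {G : Type*} [Group G] [Finite G]

theorem iso_mulAut (hs : IsSimpleGroup N) (hnc : ∃ x y : N, ¬ Commute x y)
    (hout : Nat.card (Cfsg.Out N) = 2) (G0 : Subgroup G) [G0.Normal] (hidx : G0.index = 2)
    (hcent : centralizer (G0 : Set G) = ⊥) (e : G0 ≃* N) : Nonempty (G ≃* MulAut N) := by
  let ψ : G →* MulAut N := (MulAut.congr e).toMonoidHom.comp (MulAut.conjNormal (H := G0))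
  have hinj : Function.Injective ψ := by
    refine (MulAut.congr e).injective.comp ((injective_iff_map_eq_one _).2 fun g hg => ?_)
    rw [← mem_bot, ← hcent, mem_centralizer_iff]
    intro x hx
    have h1 : MulAut.conjNormal (H := G0) g ⟨x, hx⟩ = ⟨x, hx⟩ := by rw [hg]; rfl
    have h2 := congrArg Subtype.val h1
    rw [MulAut.conjNormal_apply] at h2
    exact (mul_inv_eq_iff_eq_mul.1 h2).symm
  refine ⟨MulEquiv.ofBijective ψ ((Nat.bijective_iff_injective_and_card ψ).2 ⟨hinj, ?_⟩)⟩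
  rw [card_mulAut hs hnc hout, ← Subgroup.card_mul_index G0, hidx, mul_comm,
    ← Nat.card_congr e.toEquiv]

theorem fstar_index_two (hs : IsSimpleGroup N) (hnc : ∃ x y : N, ¬ Commute x y)
    (G0 : Subgroup G) [G0.Normal] (hcent : centralizer (G0 : Set G) = ⊥) (e : G0 ≃* N) :
    Nonempty (↥(Cfsg.generalizedFittingSubgroup G) ≃* N) := by
  obtain ⟨x, y, hxy⟩ := hnc
  have h := Fi23Plus.fstar_eq_of_simple (N := G0) (e.isSimpleGroup_congr.2 hs)
    ⟨e.symm x, e.symm y, fun h => hxy (by simpa using h.map e)⟩ hcent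
  exact ⟨(MulEquiv.subgroupCongr h).trans e⟩

theorem fstar_iso (hs : IsSimpleGroup N) (hnc : ∃ x y : N, ¬ Commute x y) (e : G ≃* N) :
    Nonempty (↥(Cfsg.generalizedFittingSubgroup G) ≃* N) := by
  refine fstar_index_two hs hnc (⊤ : Subgroup G) ?_ (Subgroup.topEquiv.trans e)
  rw [Subgroup.coe_top, centralizer_univ, eq_bot_iff]
  intro g hg
  have h : e g ∈ center N := mem_center_iff.2 fun x => by
    have := congrArg e (mem_center_iff.1 hg (e.symm x))
    rwa [map_mul, map_mul, e.apply_symm_apply] at this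
  rw [center_bot hs hnc, mem_bot, EmbeddingLike.map_eq_one_iff] at h
  exact mem_bot.2 h

end generic

theorem mcl_simple : IsSimpleGroup ↥Cfsg.Spor.McL := Leech.isMcL_spor.1

instance mcl_finite : Finite ↥Cfsg.Spor.McL :=
  Nat.finite_of_card_ne_zero (by rw [Leech.isMcL_spor.2]; norm_num)

theorem mcl_noncomm : ∃ x y : ↥Cfsg.Spor.McL, ¬ Commute x y := by
  haveI := mcl_simple
  by_contra h
  push Not at h
  let _ : CommGroup ↥Cfsg.Spor.McL := { (inferInstance : Group ↥Cfsg.Spor.McL) with mul_comm := h }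
  have hp := IsSimpleGroup.prime_card (α := ↥Cfsg.Spor.McL)
  rw [Leech.isMcL_spor.2] at hp
  exact absurd hp (by norm_num)

variable {G : Type*} [Group G] [Finite G]

/-- The conclusion of the recognition theorems. -/
theorem mcl_or_aut (h : Nonempty (G ≃* Cfsg.Spor.McL) ∨ ∃ G0 : Subgroup G, G0.index = 2 ∧ G0.Normal ∧
    centralizer (G0 : Set G) = ⊥ ∧ Nonempty (G0 ≃* Cfsg.Spor.McL)) :
    Nonempty (G ≃* Cfsg.Spor.McL) ∨ Nonempty (G ≃* MulAut Cfsg.Spor.McL) := by
  rcases h with h | ⟨G0, hi, hn, hc, ⟨e⟩⟩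
  · exact Or.inl h
  · exact Or.inr (iso_mulAut mcl_simple mcl_noncomm S2073.result G0 hi hc e)

/-- The generalised Fitting subgroup in both conclusions. -/
theorem fstar_mcl (h : Nonempty (G ≃* Cfsg.Spor.McL) ∨ ∃ G0 : Subgroup G, G0.index = 2 ∧ G0.Normal ∧
    centralizer (G0 : Set G) = ⊥ ∧ Nonempty (G0 ≃* Cfsg.Spor.McL)) :
    Cfsg.Spor.IsoMcL ↥(Cfsg.generalizedFittingSubgroup G) := by
  rcases h with h | ⟨G0, -, hn, hc, ⟨e⟩⟩
  · exact fstar_iso mcl_simple mcl_noncomm (Classical.choice h)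
  · exact fstar_index_two mcl_simple mcl_noncomm G0 hc e

end Cfsg.Agent.McLThreeWrap
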