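import Cfsg.Agent.Lib.McLThree.Model
import Mathlib.GroupTheory.GroupAction.ConjAct
import Mathlib.Algebra.Group.End
import Mathlib.GroupTheory.Index

/-!
Automorphisms of `SL(2,5)` of 3-power order are inner.
-/

set_option autoImplicit false
set_option maxRecDepth 20000
set_option maxHeartbeats 2000000
set_option synthInstance.maxSize 2000

namespace Cfsg.Agent.McLThreeWrap

open McLThree Subgroup Matrix

/-- first generator -/
def genA : S25 := ⟨!![1, 1; 0, 1], by decide⟩

/-- second generator -/
def genB : S25 := ⟨!![1, 0; 4, 1], by decide⟩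

theorem gen_rel : genA ^ 5 = 1 ∧ genB ^ 5 = 1 ∧ genA ≠ genB ∧
    genA * genB * genA = genB * genA * genB := by decide +kernel

theorem gen_word : ∀ g : S25, ∃ i j k l : Fin 5,
    g = genA ^ (i : ℕ) * genB ^ (j : ℕ) * genA ^ (k : ℕ) * genB ^ (l : ℕ) := by
  decide +kernel

theorem pair_count : (((Finset.univ : Finset S25).filter fun x => x ^ 5 = 1) ×ˢ
    ((Finset.univ : Finset S25).filter fun x => x ^ 5 = 1) |>.filter
      fun p => p.1 ≠ p.2 ∧ p.1 * p.2 * p.1 = p.2 * p.1 * p.2).card ≤ 120 := by
  decide +kernel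

theorem center25 : ∀ a : S25, (∀ b : S25, a * b = b * a) → a = 1 ∨ a = -1 := by decide +kernel

/-- An element with the given powers lies in the subgroup they generate. -/
theorem three25_gen : ∀ a : S25, ∃ x : S25, x ^ 3 = 1 ∧ ∃ y : S25, y ^ 3 = 1 ∧
    ∃ z : S25, z ^ 3 = 1 ∧ x * y * z = a := by
  decide +kernel

theorem card_mulAut25 : Nat.card (MulAut S25) ≤ 120 := by
  classical
  let T : Finset (S25 × S25) := ((Finset.univ : Finset S25).filter fun x => x ^ 5 = 1) ×ˢ
    ((Finset.univ : Finset S25).filter fun x => x ^ 5 = 1) |>.filter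
      fun p => p.1 ≠ p.2 ∧ p.1 * p.2 * p.1 = p.2 * p.1 * p.2
  let f : MulAut S25 → T := fun α => ⟨(α genA, α genB), by
    refine Finset.mem_filter.2 ⟨Finset.mem_product.2 ⟨Finset.mem_filter.2 ⟨Finset.mem_univ _, ?_⟩,
      Finset.mem_filter.2 ⟨Finset.mem_univ _, ?_⟩⟩, fun h => gen_rel.2.2.1 (α.injective h), ?_⟩
    · show α genA ^ 5 = 1
      rw [← map_pow, gen_rel.1, map_one]
    · show α genB ^ 5 = 1
      rw [← map_pow, gen_rel.2.1, map_one]
    · show α genA * α genB * α genA = α genB * α genA * α genB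
      rw [← map_mul, ← map_mul, gen_rel.2.2.2, map_mul, map_mul]⟩
  have hf : Function.Injective f := by
    intro α β h
    have h' := congrArg Subtype.val h
    refine MulEquiv.ext fun g => ?_
    obtain ⟨i, j, k, l, rfl⟩ := gen_word g
    simp only [map_mul, map_pow, show α genA = β genA from (Prod.ext_iff.1 h').1,
      show α genB = β genB from (Prod.ext_iff.1 h').2]
  refine (Nat.card_le_card_of_injective f hf).trans ?_
  rw [Nat.card_eq_fintype_card, Fintype.card_coe]
  exact pair_count

/-- An automorphism of 3-power order is conjugation. -/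
theorem aut25_inner {α : MulAut S25} {n : ℕ} (h : α ^ 3 ^ n = 1) :
    ∃ k : S25, MulAut.conj k = α := by
  set I : Subgroup (MulAut S25) := (MulAut.conj : S25 →* MulAut S25).range
  haveI : I.Normal := ⟨by
    rintro _ ⟨g, rfl⟩ φ
    refine ⟨φ g, ?_⟩
    ext x
    simp [MulAut.conj_apply, map_mul, map_inv]⟩
  have hk : Nat.card (MulAut.conj : S25 →* MulAut S25).ker ≤ 2 := by
    have hsub : ((MulAut.conj : S25 →* MulAut S25).ker : Set S25) ⊆ {1, -1} := by
      intro a ha
      refine center25 a fun b => ?_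
      have h2 := DFunLike.congr_fun (MonoidHom.mem_ker.1 ha) b
      rw [MulAut.one_apply, MulAut.conj_apply] at h2
      exact mul_inv_eq_iff_eq_mul.1 h2
    calc Nat.card (MulAut.conj : S25 →* MulAut S25).ker ≤ Nat.card ({1, -1} : Set S25) :=
        Nat.card_mono (Set.toFinite _) hsub
      _ ≤ 2 := by
        rw [Nat.card_coe_set_eq]
        exact le_trans (Set.ncard_insert_le _ _) (by rw [Set.ncard_singleton])
  have h60 : 60 ≤ Nat.card I := by
    have := (MulAut.conj : S25 →* MulAut S25).ker.card_mul_index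
    rw [Subgroup.index_ker, Nat.card_eq_fintype_card (α := S25), card25] at this
    change Nat.card (MulAut.conj : S25 →* MulAut S25).ker * Nat.card I = 120 at this
    nlinarith
  have hidx : I.index ≤ 2 := by
    have := I.card_mul_index
    have := card_mulAut25
    nlinarith
  have hmem : α ∈ I := by
    have hpos : I.index ≠ 0 := index_ne_zero_of_finite
    have h2 : α ^ 2 ∈ I := by
      rcases (show I.index = 1 ∨ I.index = 2 by omega) with h1 | h1
      · exact index_eq_one.1 h1 ▸ mem_top _
      · have := I.pow_index_mem α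
        rwa [h1] at this
    obtain ⟨m, hm⟩ : Odd (3 ^ n) := Odd.pow (by decide)
    have h3 : α ^ 3 ^ n ∈ I := h ▸ one_mem I
    rw [hm, pow_succ, pow_mul] at h3
    exact (I.mul_mem_cancel_left (pow_mem h2 m)).1 h3
  exact hmem

end Cfsg.Agent.McLThreeWrap
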