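import Cfsg.Agent.Lib.McLThree.Basic
import Cfsg.Agent.Lib.LocalEven.Basic

/-!
Building the 3-local configuration of McLaughlin's group from the hypotheses of the recognition
theorems.
-/

set_option autoImplicit false
set_option maxHeartbeats 1000000
set_option linter.unusedSectionVars false

namespace Cfsg.Agent.McLThreeWrap

open Subgroup McLThree

variable {G : Type*} [Group G] [Finite G]

/-- The subgroup generated by the 3-elements of `H`. -/
def threeGen (H : Subgroup G) : Subgroup G :=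
  closure {g : G | g ∈ H ∧ ∃ k : ℕ, orderOf g = 3 ^ k}

theorem threeGen_le (H : Subgroup G) : threeGen H ≤ H := (closure_le _).2 fun _ h => h.1

theorem mem_threeGen {H : Subgroup G} {g : G} {n : ℕ} (hg : g ∈ H) (h : g ^ 3 ^ n = 1) :
    g ∈ threeGen H := by
  obtain ⟨k, -, hk⟩ := (Nat.dvd_prime_pow Nat.prime_three).1 (orderOf_dvd_of_pow_eq_one h)
  exact subset_closure ⟨hg, k, hk⟩

theorem le_threeGen {H P : Subgroup G} (hP : IsPGroup 3 P) (h : P ≤ H) : P ≤ threeGen H := fun g hg => by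
  obtain ⟨n, hn⟩ := hP ⟨g, hg⟩
  exact mem_threeGen (h hg) (congrArg Subtype.val hn)

theorem threeGen_conj {H : Subgroup G} {g x : G} (hg : g ∈ H) (hx : x ∈ threeGen H) :
    g * x * g⁻¹ ∈ threeGen H := by
  have hle : threeGen H ≤ (threeGen H).comap (MulAut.conj g).toMonoidHom := (closure_le _).2 fun y hy => by
    show g * y * g⁻¹ ∈ threeGen H
    refine subset_closure ⟨mul_mem (mul_mem hg hy.1) (inv_mem hg), ?_⟩
    have e : orderOf (g * y * g⁻¹) = orderOf y :=
      orderOf_injective (MulAut.conj g).toMonoidHom (MulAut.conj g).injective y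
    rw [e]; exact hy.2
  exact hle hx

/-- An element of 3-power order normalising a subgroup of order three centralises it. -/
theorem three_fixes {Z : Subgroup G} (hZ : Nat.card Z = 3) {g : G} {n : ℕ}
    (hg : g ∈ normalizer (Z : Set G)) (h : g ^ 3 ^ n = 1) : g ∈ centralizer (Z : Set G) := by
  haveI : Fact (Nat.Prime 3) := ⟨Nat.prime_three⟩
  rw [mem_centralizer_iff]
  intro z hz
  rw [SetLike.mem_coe] at hz
  have key : ∀ y ∈ Z, y = 1 ∨ z = 1 ∨ y = z ∨ y = z⁻¹ := by
    intro y hy
    by_cases hz1 : z = 1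
    · exact Or.inr (Or.inl hz1)
    have hz3 : z ^ 3 = 1 := by
      have := pow_card_eq_one' (G := Z) (x := ⟨z, hz⟩)
      rw [hZ] at this
      exact congrArg Subtype.val this
    have ho : orderOf z = 3 := orderOf_eq_prime hz3 hz1
    have heq : zpowers z = Z := eq_of_le_of_card_ge (zpowers_le.2 hz) (by rw [hZ, Nat.card_zpowers, ho])
    rw [← heq] at hy
    classical
    obtain ⟨i, hi, e⟩ := Finset.mem_image.1 (mem_zpowers_iff_mem_range_orderOf.1 hy)
    rw [Finset.mem_range, ho] at hi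
    interval_cases i
    · exact Or.inl (e.symm.trans (pow_zero _))
    · exact Or.inr (Or.inr (Or.inl (e.symm.trans (pow_one _))))
    · exact Or.inr (Or.inr (Or.inr (e.symm.trans (eq_inv_of_mul_eq_one_left (by rw [← pow_succ]; exact hz3)))))
  have h2 : Commute (g ^ 2) z := by
    rcases key _ ((mem_normalizer_iff.1 hg z).1 hz) with e | e | e | e
    · rw [conj_eq_one_iff] at e; rw [e]; exact Commute.one_right _
    · rw [e]; exact Commute.one_right _
    · exact (show Commute g z from mul_inv_eq_iff_eq_mul.1 e).pow_left 2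
    · refine mul_inv_eq_iff_eq_mul.1 ?_
      calc g ^ 2 * z * (g ^ 2)⁻¹ = g * (g * z * g⁻¹) * g⁻¹ := by rw [pow_two]; group
        _ = g * z⁻¹ * g⁻¹ := by rw [e]
        _ = (g * z * g⁻¹)⁻¹ := by group
        _ = z := by rw [e, inv_inv]
  obtain ⟨m, hm⟩ : Odd (3 ^ n) := Odd.pow (by decide)
  rw [hm, pow_succ, pow_mul] at h
  have hc : Commute g z := by
    rw [eq_inv_of_mul_eq_one_right h]
    exact (h2.pow_left m).inv_left
  exact hc.eq.symm

/-- The configuration from its essential data. -/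
theorem conf_nonempty (Z Q S J : Subgroup G) (hZ : Nat.card Z = 3) (hQ : Nat.card Q = 243)
    (hS : Nat.card S = 729) (hJ : Nat.card J = 81) (hnd : ¬ 2187 ∣ Nat.card G)
    (hex : Cfsg.IsExtraspecial 3 Q) (hexp : ∀ a ∈ Q, a ^ 3 = 1)
    (hZc : ∀ x, x ∈ Z ↔ x ∈ Q ∧ ∀ q ∈ Q, x * q = q * x)
    (hcQ : ∀ x, (∀ q ∈ Q, x * q = q * x) → x ∈ Q)
    (hnQ : ∀ g ∈ normalizer (Z : Set G), ∀ q ∈ Q, g * q * g⁻¹ ∈ Q)
    (hSN : S ≤ normalizer (Z : Set G)) (hJS : J ≤ S) (hJc : ∀ a ∈ J, ∀ b ∈ J, a * b = b * a)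
    (hJe : ∀ a ∈ J, a ^ 3 = 1)
    (pi : threeGen (normalizer (Z : Set G)) →* S25) (hpi : Function.Surjective pi)
    (hpik : ∀ x : threeGen (normalizer (Z : Set G)), pi x = 1 ↔ (x : G) ∈ Q)
    (phi : threeGen (normalizer (J : Set G)) →* A6) (hphi : Function.Surjective phi)
    (hphik : ∀ x : threeGen (normalizer (J : Set G)), phi x = 1 ↔ (x : G) ∈ J) :
    Nonempty (Conf G) := by
  have h729 : ∀ {g : G}, orderOf g ∣ 729 → g ^ 3 ^ 6 = 1 := fun h => orderOf_dvd_iff_pow_eq_one.1 h
  have hQN : Q ≤ normalizer (Z : Set G) := fun q hq => by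
    refine centralizer_le_normalizer _ (mem_centralizer_iff.2 fun z hz => ?_)
    exact ((hZc z).1 hz).2 q hq
  have hS3 : ∀ s ∈ S, s ^ 3 ^ 6 = 1 := fun s hs => h729 (by
    rw [← Subgroup.orderOf_mk s hs, ← hS]; exact orderOf_dvd_natCard _)
  exact ⟨{
    Z := Z, Q := Q, L := threeGen (normalizer (Z : Set G)), S := S, J := J
    M := threeGen (normalizer (J : Set G))
    card_Z := hZ, card_Q := hQ, card_S := hS, card_J := hJ, not_dvd := hnd, extra := hex
    exp_Q := hexp, Z_center := hZc, cent_Q := hcQ, normQ := hnQ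
    L_norm := threeGen_le _
    normL := fun g hg x hx => threeGen_conj hg hx
    QL := fun q hq => mem_threeGen (n := 1) (hQN hq) (by simpa using hexp q hq)
    pi := pi, pi_surj := hpi, pi_ker := hpik
    three_L := fun g hg h => mem_threeGen hg (h729 h)
    SL := fun s hs => mem_threeGen (hSN hs) (hS3 s hs)
    JS := hJS, J_comm := hJc, J_exp := hJe
    JM := fun j hj => mem_threeGen (n := 1) (le_normalizer hj) (by simpa using hJe j hj)
    M_norm := threeGen_le _
    phi := phi, phi_surj := hphi, phi_ker := hphik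
    three_M := fun g hg h => mem_threeGen hg (h729 h) }⟩

/-- The map given by an isomorphism on a quotient. -/
theorem quot_hom {L N : Subgroup G} [(N.subgroupOf L).Normal] {K : Type*} [Group K]
    (e : L ⧸ N.subgroupOf L ≃* K) :
    ∃ f : L →* K, Function.Surjective f ∧ ∀ x : L, f x = 1 ↔ (x : G) ∈ N := by
  refine ⟨e.toMonoidHom.comp (QuotientGroup.mk' _),
    e.surjective.comp (QuotientGroup.mk'_surjective _), fun x => ?_⟩
  show e (QuotientGroup.mk' _ x) = 1 ↔ _
  rw [EmbeddingLike.map_eq_one_iff, QuotientGroup.mk'_apply, QuotientGroup.eq_one_iff, mem_subgroupOf]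

/-- The centre lies in `J`; with the condition at the centre we get the configuration. -/
theorem of_sylow (S : Sylow 3 G) (Z : Subgroup G)
    (hZ : Z = (S : Subgroup G) ⊓ centralizer ((S : Subgroup G) : Set G))
    (J : Subgroup G) (hJS : J ≤ S) (hJc : IsMulCommutative J) (hJe : ∀ a ∈ J, a ^ 3 = 1)
    (hJ : Nat.card J = 3 ^ 4)
    (M₀ : Subgroup G) (hM₀ : M₀ = threeGen (normalizer (J : Set G)))
    [(J.subgroupOf M₀).Normal] (eM : M₀ ⧸ J.subgroupOf M₀ ≃* alternatingGroup (Fin 6))
    (L₀ : Subgroup G) (hL₀ : L₀ = threeGen (normalizer (Z : Set G)))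
    (Q : Subgroup G) (hQ : Q = (Cfsg.pCore 3 (normalizer (Z : Set G))).map (normalizer (Z : Set G)).subtype)
    (hex : Cfsg.IsExtraspecial 3 Q) (hQc : Nat.card Q = 3 ^ 5) (hexp : ∀ a ∈ Q, a ^ 3 = 1)
    (hQL : Q ≤ L₀) [(Q.subgroupOf L₀).Normal] (eL : L₀ ⧸ Q.subgroupOf L₀ ≃* S25) :
    (∃ x ∈ J, x ≠ 1 ∧ centralizer ({x} : Set G) = centralizer (Z : Set G)) ∧ (centralizer (((Cfsg.pCore 3 (centralizer (Z : Set G))).map (centralizer (Z : Set G)).subtype :
        Subgroup G) : Set G) ≤ (Cfsg.pCore 3 (centralizer (Z : Set G))).map (centralizer (Z : Set G)).subtype →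
      Nonempty (Conf G)) := by
  haveI : Fact (Nat.Prime 3) := ⟨Nat.prime_three⟩
  have hQn : normalizer (Z : Set G) ≤ normalizer (Q : Set G) := by
    rw [hQ]
    refine le_normalizer.trans (LEBasic.le_normalizer_map_of_characteristic
      (LEBasic.pCore_characteristic (p := 3)))
  have hQN : Q ≤ normalizer (Z : Set G) := hQ ▸ map_subtype_le _
  have hQp : IsPGroup 3 Q := IsPGroup.of_card hQc
  have hSN : (S : Subgroup G) ≤ normalizer (Z : Set G) := fun s hs => by
    refine centralizer_le_normalizer _ (mem_centralizer_iff.2 fun z hz => ?_)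
    rw [SetLike.mem_coe, hZ] at hz
    exact (mem_centralizer_iff.1 hz.2 s hs).symm
  have hQS : Q ≤ S := by
    have h := S.is_maximal' (hQp.to_sup_of_normal_left' S.isPGroup' (hSN.trans hQn)) le_sup_right
    exact le_sup_left.trans h.le
  have hZp : IsPGroup 3 Z := S.isPGroup'.to_le (hZ ▸ inf_le_left)
  have hZQ : Z ≤ Q := hQ ▸ LEBasic.le_pCoreMap le_normalizer le_rfl hZp
  have hZQc : ∀ z ∈ Z, ∀ q ∈ Q, z * q = q * z := fun z hz q hq => by
    rw [hZ] at hz
    exact (mem_centralizer_iff.1 hz.2 q (hQS hq)).symm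
  have hle : Z.subgroupOf Q ≤ center Q := fun z hz => mem_center_iff.2 fun q =>
    Subtype.ext (hZQc _ hz q q.2).symm
  have hZ1 : 1 < Nat.card Z := by
    haveI : Nontrivial ↥(S : Subgroup G) := Finite.one_lt_card_iff_nontrivial.1 (by
      have := card_le_of_le hQS
      rw [hQc] at this
      omega)
    haveI := S.isPGroup'.center_nontrivial
    obtain ⟨z, hz⟩ := exists_ne (1 : center ↥(S : Subgroup G))
    have hzZ : ((z : ↥(S : Subgroup G)) : G) ∈ Z := by
      rw [hZ]
      exact ⟨(z : ↥(S : Subgroup G)).2, mem_centralizer_iff.2 fun s hs =>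
        congrArg Subtype.val (mem_center_iff.1 z.2 ⟨s, hs⟩)⟩
    refine Finite.one_lt_card_iff_nontrivial.2 ⟨⟨⟨_, hzZ⟩, 1, fun e => hz ?_⟩⟩
    exact Subtype.ext (Subtype.ext (congrArg (Subtype.val : Z → G) e))
  have heq : Z.subgroupOf Q = center Q := by
    refine eq_of_le_of_card_ge hle ?_
    rw [hex.2, Nat.card_congr (subgroupOfEquivOfLe hZQ).toEquiv]
    obtain ⟨k, -, hk⟩ := (Nat.dvd_prime_pow Nat.prime_three).1
      (show Nat.card Z ∣ 3 ^ 1 by
        rw [pow_one, ← hex.2, ← Nat.card_congr (subgroupOfEquivOfLe hZQ).toEquiv]; exact card_dvd_of_le hle)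
    rcases k with _ | k
    · rw [hk] at hZ1; norm_num at hZ1
    · rw [hk]; exact le_self_pow₀ (by norm_num) (by omega)
  have hZ3 : Nat.card Z = 3 := by
    rw [← Nat.card_congr (subgroupOfEquivOfLe hZQ).toEquiv, heq, hex.2]
  have hZc : ∀ x, x ∈ Z ↔ x ∈ Q ∧ ∀ q ∈ Q, x * q = q * x := fun x =>
    ⟨fun hx => ⟨hZQ hx, hZQc x hx⟩, fun ⟨hx, h⟩ => by
      have : (⟨x, hx⟩ : Q) ∈ Z.subgroupOf Q := heq ▸ mem_center_iff.2 fun q => Subtype.ext (h q q.2).symm
      exact this⟩
  have hQC : Q ≤ centralizer (Z : Set G) := fun q hq => mem_centralizer_iff.2 fun z hz => hZQc z hz q hq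
  have hQO : Q ≤ (Cfsg.pCore 3 (centralizer (Z : Set G))).map (centralizer (Z : Set G)).subtype :=
    LEBasic.le_pCoreMap hQC ((centralizer_le_normalizer _).trans hQn) hQp
  have hOQ : (Cfsg.pCore 3 (centralizer (Z : Set G))).map (centralizer (Z : Set G)).subtype ≤ Q := by
    rw [hQ]
    refine LEBasic.le_pCoreMap ((map_subtype_le _).trans (centralizer_le_normalizer _)) ?_
      (LEBasic.pCoreMap_isPGroup _)
    refine le_trans ?_ (LEBasic.le_normalizer_map_of_characteristic (LEBasic.pCore_characteristic (p := 3)))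
    intro g hg
    refine mem_normalizer_iff.2 fun x => ?_
    have hn := mem_normalizer_iff.1 hg
    rw [mem_centralizer_iff, mem_centralizer_iff]
    constructor
    · intro h z hz
      have hz' : g⁻¹ * z * g ∈ Z := (hn _).2 (by simpa [mul_assoc] using hz)
      calc z * (g * x * g⁻¹) = g * ((g⁻¹ * z * g) * x) * g⁻¹ := by group
        _ = g * (x * (g⁻¹ * z * g)) * g⁻¹ := by rw [h _ hz']
        _ = _ := by group
    · intro h z hz
      calc z * x = g⁻¹ * ((g * z * g⁻¹) * (g * x * g⁻¹)) * g := by group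
        _ = g⁻¹ * ((g * x * g⁻¹) * (g * z * g⁻¹)) * g := by rw [h _ ((hn z).1 hz)]
        _ = _ := by group
  subst hM₀ hL₀
  obtain ⟨pi, hpi, hpik⟩ := quot_hom eL
  obtain ⟨phi, hphi, hphik⟩ := quot_hom eM
  -- the order of the Sylow subgroup
  have hSL : (S : Subgroup G) ≤ threeGen (normalizer (Z : Set G)) := le_threeGen S.isPGroup' hSN
  have hL : Nat.card (threeGen (normalizer (Z : Set G))) = 243 * 120 := by
    rw [← (Q.subgroupOf (threeGen (normalizer (Z : Set G)))).card_mul_index,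
      Nat.card_congr (subgroupOfEquivOfLe hQL).toEquiv, hQc]
    show 3 ^ 5 * Nat.card _ = _
    rw [Nat.card_congr eL.toEquiv, Nat.card_eq_fintype_card, card25]
    norm_num
  have hdvd := hL ▸ card_dvd_of_le hSL
  obtain ⟨n, hn⟩ := IsPGroup.iff_card.1 S.isPGroup'
  have hmax : ∀ m, 3 ^ m ∣ Nat.card G → m ≤ n := fun m hm => by
    have := (Nat.prime_three.pow_dvd_iff_le_factorization Nat.card_pos.ne').1 hm
    rw [S.card_eq_multiplicity] at hn
    exact this.trans (Nat.pow_right_injective (le_refl 2 |>.trans (by norm_num)) hn).le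
  have hn6 : n = 6 := by
    refine le_antisymm ?_ (hmax 6 ((show (3 : ℕ) ^ 6 ∣ 243 * 120 by norm_num).trans
      (hL ▸ card_subgroup_dvd_card _)))
    by_contra h
    have := (pow_dvd_pow 3 (show 7 ≤ n by omega)).trans (hn ▸ hdvd)
    norm_num at this
  subst hn6
  constructor
  · -- abelian subgroups of an extraspecial group are small
    have hJc' : ∀ a ∈ J, ∀ b ∈ J, a * b = b * a :=
      fun a ha b hb => congrArg Subtype.val (hJc.is_comm.comm (⟨a, ha⟩ : J) ⟨b, hb⟩)
    have hZS : ∀ z ∈ Z, ∀ s ∈ (S : Subgroup G), z * s = s * z := fun z hz s hs => by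
      rw [hZ] at hz
      exact (mem_centralizer_iff.1 hz.2 s hs).symm
    set A : Subgroup G := J ⊓ Q with hA
    set B : Subgroup G := closure ((A : Set G) ∪ Z) with hB
    have hBc : IsMulCommutative ↥B := by
      refine Subgroup.isMulCommutative_closure fun a ha b hb => ?_
      rcases ha with ha | ha <;> rcases hb with hb | hb
      · exact hJc' a ha.1 b hb.1
      · exact (hZQc b hb a ha.2).symm
      · exact hZQc a ha b hb.2
      · exact hZQc a ha b (hZQ hb)
    have hAB : A ≤ B := fun x hx => subset_closure (Or.inl hx)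
    have hBQ : B ≤ Q := (closure_le _).2 fun x hx => hx.elim (fun h => h.2) (fun h => hZQ h)
    have hA27 : 27 ≤ Nat.card A := by
      have h1 := (Q.subgroupOf J).card_mul_index
      have e1 : Nat.card (Q.subgroupOf J) = Nat.card A :=
        Nat.card_congr
          { toFun := fun x => ⟨((x : J) : G), (x : J).2, x.2⟩
            invFun := fun x => ⟨⟨x, x.2.1⟩, x.2.2⟩
            left_inv := fun _ => rfl
            right_inv := fun _ => rfl }
      rw [e1, hJ] at h1
      have hr : Q.relIndex S = 3 := by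
        have h := (Q.subgroupOf (S : Subgroup G)).card_mul_index
        rw [Nat.card_congr (subgroupOfEquivOfLe hQS).toEquiv, hQc, hn] at h
        show (Q.subgroupOf (S : Subgroup G)).index = 3
        norm_num at h ⊢
        omega
      have h3 : (Q.subgroupOf J).index ≤ 3 :=
        hr ▸ relIndex_le_of_le_right hJS (by rw [hr]; norm_num)
      norm_num at h1
      nlinarith
    have hB27 : Nat.card B ≤ 27 := by
      have hB' : ∀ a ∈ B, ∀ b ∈ B, a * b = b * a :=
        fun a ha b hb => congrArg Subtype.val (hBc.is_comm.comm (⟨a, ha⟩ : B) ⟨b, hb⟩)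
      haveI : IsMulCommutative (B.subgroupOf Q) :=
        ⟨⟨fun a b => Subtype.ext (Subtype.ext (hB' _ a.2 _ b.2))⟩⟩
      have h := FGBasics.XS.card_abelian_sq_le hex (B.subgroupOf Q) inferInstance
      rw [Nat.card_congr (subgroupOfEquivOfLe hBQ).toEquiv, hQc] at h
      by_contra hh
      norm_num at h
      nlinarith
    have e := eq_of_le_of_card_ge hAB (hB27.trans hA27)
    haveI : Nontrivial Z := Finite.one_lt_card_iff_nontrivial.1 hZ1
    obtain ⟨⟨z, hz⟩, hz1⟩ := exists_ne (1 : Z)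
    have hz1' : z ≠ 1 := fun h => hz1 (Subtype.ext h)
    have hzA : z ∈ A := by rw [e]; exact subset_closure (Or.inr hz)
    refine ⟨z, hzA.1, hz1', ?_⟩
    have hgen : zpowers z = Z := eq_of_le_of_card_ge (zpowers_le.2 hz)
      (by rw [hZ3, Nat.card_zpowers, orderOf_eq_prime (hexp z (hZQ hz)) hz1'])
    rw [← hgen, ← centralizer_closure ({z} : Set G), ← zpowers_eq_closure]
  intro hiii
  have hcQ : ∀ x, (∀ q ∈ Q, x * q = q * x) → x ∈ Q := fun x h =>
    hOQ (hiii (mem_centralizer_iff.2 fun y hy => (h y (hOQ hy)).symm))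
  exact conf_nonempty Z Q S J hZ3 (by rw [hQc]; norm_num) (by rw [hn]; norm_num) (by rw [hJ]; norm_num)
    (fun h => absurd (hmax 7 h) (by norm_num)) hex hexp hZc hcQ
    (fun g hg q hq => (mem_normalizer_iff.1 (hQn hg) q).1 hq) hSN hJS
    (fun a ha b hb => congrArg Subtype.val (hJc.is_comm.comm (⟨a, ha⟩ : J) ⟨b, hb⟩)) hJe
    pi hpi hpik phi hphi hphik

end Cfsg.Agent.McLThreeWrap
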