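import Cfsg.Agent.Lib.McLThreeWrap.Build
import Cfsg.Agent.Lib.McLThreeWrap.Aut25
import Cfsg.Agent.Lib.Components.FStar
import Cfsg.Agent.Lib.Qd.Basic

/-!
The configuration from the generalised Fitting subgroup of the centraliser of `Z`.
-/

set_option autoImplicit false
set_option maxHeartbeats 1000000
set_option linter.unusedSectionVars false

namespace Cfsg.Agent.McLThreeWrap

open Subgroup McLThree

/-- 3-elements lie in a self-centralising normal copy of `SL(2,5)`. -/
theorem three_mem {B : Type*} [Group B] [Finite B] {K : Subgroup B} [K.Normal] (e : K ≃* S25)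
    (hC : centralizer (K : Set B) ≤ K) {x : B} {n : ℕ} (hx : x ^ 3 ^ n = 1) : x ∈ K := by
  set α : MulAut S25 := MulAut.congr e (MulAut.conjNormal x) with hα
  have hα3 : α ^ 3 ^ n = 1 := by rw [hα, ← map_pow, ← map_pow, hx, map_one, map_one]
  obtain ⟨k, hk⟩ := aut25_inner hα3
  set k' : K := e.symm k
  have hc : (k' : B)⁻¹ * x ∈ centralizer (K : Set B) := by
    rw [mem_centralizer_iff]
    intro y hy
    have h1 : e (MulAut.conjNormal x ⟨y, hy⟩) = k * e ⟨y, hy⟩ * k⁻¹ := by
      rw [← MulAut.conj_apply, hk, hα]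
      simp [MulAut.congr]
    have h2 : MulAut.conjNormal x (⟨y, hy⟩ : K) = k' * ⟨y, hy⟩ * k'⁻¹ := by
      apply e.injective
      rw [h1, map_mul, map_mul, map_inv, e.apply_symm_apply]
    have h3 : x * y * x⁻¹ = (k' : B) * y * (k' : B)⁻¹ := by
      simpa [MulAut.conjNormal_apply] using congrArg Subtype.val h2
    calc y * ((k' : B)⁻¹ * x) = (k' : B)⁻¹ * ((k' : B) * y * (k' : B)⁻¹) * x := by group
      _ = (k' : B)⁻¹ * (x * y * x⁻¹) * x := by rw [h3]
      _ = _ := by group
  simpa using mul_mem k'.2 (hC hc)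

variable {G : Type*} [Group G] [Finite G]

theorem of_fitting (Z : Subgroup G) (hZ : Nat.card Z = 3) (C : Subgroup G)
    (hCdef : C = centralizer (Z : Set G)) (S : Sylow 3 ↥C)
    (J : Subgroup G)
    (hJS : J ≤ ((S : Subgroup ↥C).map C.subtype))
    (hJc : ∀ a ∈ J, ∀ b ∈ J, a * b = b * a) (hJe : ∀ a ∈ J, a ^ 3 = 1) (hJ : Nat.card J = 3 ^ 4)
    (hex : Cfsg.IsExtraspecial 3 ↥(Cfsg.generalizedFittingSubgroup ↥C))
    (hQc : Nat.card ↥(Cfsg.generalizedFittingSubgroup ↥C) = 3 ^ 5)
    [(Cfsg.generalizedFittingSubgroup ↥C).Normal]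
    (hexp : ∀ x ∈ Cfsg.generalizedFittingSubgroup ↥C, x ^ 3 = 1)
    (eK : ↥(Cfsg.generalizedFittingSubgroup (↥C ⧸
      Cfsg.generalizedFittingSubgroup ↥C)) ≃* S25)
    [(J.subgroupOf (normalizer (J : Set G))).Normal]
    (eA : ↥(closure {x : ↥(normalizer (J : Set G)) ⧸ J.subgroupOf (normalizer (J : Set G)) |
      ∃ k : ℕ, orderOf x = 3 ^ k}) ≃* A6) : Nonempty (Conf G) := by
  haveI : Fact (Nat.Prime 3) := ⟨Nat.prime_three⟩
  set F := Cfsg.generalizedFittingSubgroup ↥C with hF
  set π := QuotientGroup.mk' F with hπ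
  set K := Cfsg.generalizedFittingSubgroup (↥C ⧸ F) with hK
  set Q := F.map C.subtype with hQ
  have hCN : C ≤ normalizer (Z : Set G) := hCdef ▸ centralizer_le_normalizer _
  have mC : ∀ {x : G}, x ∈ C ↔ ∀ z ∈ Z, z * x = x * z := fun {x} => by rw [hCdef, mem_centralizer_iff]; rfl
  have hQC : Q ≤ C := map_subtype_le _
  have hQc' : Nat.card Q = 243 := by
    rw [hQ, card_map_of_injective C.subtype_injective, hQc]; norm_num
  have hexQ : Cfsg.IsExtraspecial 3 Q :=
    Qd.isExtraspecial_congr (F.equivMapOfInjective C.subtype C.subtype_injective).symm hex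
  have hexpQ : ∀ a ∈ Q, a ^ 3 = 1 := by
    rintro _ ⟨x, hx, rfl⟩
    rw [← map_pow, hexp x hx, map_one]
  have mQ : ∀ {x : ↥C}, (x : G) ∈ Q ↔ x ∈ F := fun {x} =>
    ⟨fun ⟨y, hy, e⟩ => by rwa [← Subtype.ext e], fun h => ⟨x, h, rfl⟩⟩
  have hZC : Z ≤ C := fun z hz => mC.2 fun y hy => by
    haveI : IsCyclic Z := isCyclic_of_prime_card hZ
    exact congrArg Subtype.val ((inferInstance : IsMulCommutative Z).is_comm.comm (⟨y, hy⟩ : Z) ⟨z, hz⟩)
  have hZcen : Z.subgroupOf C ≤ center C := fun z hz => mem_center_iff.2 fun y =>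
    Subtype.ext (mC.1 y.2 z hz).symm
  have hZF : Z.subgroupOf C ≤ F := by
    have hn : (Z.subgroupOf C).Normal := Subgroup.Normal.mk fun z hz y => by
      rw [mem_center_iff.1 (hZcen hz) y, mul_inv_cancel_right]
      exact hz
    refine le_trans ?_ Components.fitting_le_generalizedFitting
    refine le_sSup ⟨hn, ?_⟩
    exact ((IsPGroup.of_card (n := 1) (by rw [hZ, pow_one])).comap_of_injective C.subtype
      C.subtype_injective).isNilpotent
  have hZQ : Z ≤ Q := fun z hz => ⟨⟨z, hZC hz⟩, hZF hz, rfl⟩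
  have hZQc : ∀ z ∈ Z, ∀ q ∈ Q, z * q = q * z := fun z hz q hq => mC.1 (hQC hq) z hz
  have heq : Z.subgroupOf Q = center Q := by
    refine eq_of_le_of_card_ge (fun z hz => mem_center_iff.2 fun q => Subtype.ext (hZQc _ hz q q.2).symm) ?_
    rw [hexQ.2, Nat.card_congr (subgroupOfEquivOfLe hZQ).toEquiv, hZ]
  have hZc : ∀ x, x ∈ Z ↔ x ∈ Q ∧ ∀ q ∈ Q, x * q = q * x := fun x =>
    ⟨fun hx => ⟨hZQ hx, hZQc x hx⟩, fun ⟨hx, h⟩ => by
      have : (⟨x, hx⟩ : Q) ∈ Z.subgroupOf Q := heq ▸ mem_center_iff.2 fun q => Subtype.ext (h q q.2).symm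
      exact this⟩
  have hcQ : ∀ x, (∀ q ∈ Q, x * q = q * x) → x ∈ Q := fun x h => by
    have hxC : x ∈ C := mC.2 fun z hz => (h z (hZQ hz)).symm
    exact mQ.2 (Components.centralizer_generalizedFitting_le
      (mem_centralizer_iff.2 fun y hy => Subtype.ext (h y (mQ.2 hy)).symm) : (⟨x, hxC⟩ : C) ∈ F)
  have hNC : normalizer (Z : Set G) ≤ normalizer (C : Set G) := by
    intro g hg
    refine mem_normalizer_iff.2 fun x => ?_
    have hn := mem_normalizer_iff.1 hg
    rw [mC, mC]
    constructor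
    · intro h z hz
      have hz' : g⁻¹ * z * g ∈ Z := (hn _).2 (by simpa [mul_assoc] using hz)
      calc z * (g * x * g⁻¹) = g * ((g⁻¹ * z * g) * x) * g⁻¹ := by group
        _ = g * (x * (g⁻¹ * z * g)) * g⁻¹ := by rw [h _ hz']
        _ = _ := by group
    · intro h z hz
      calc z * x = g⁻¹ * ((g * z * g⁻¹) * (g * x * g⁻¹)) * g := by group
        _ = g⁻¹ * ((g * x * g⁻¹) * (g * z * g⁻¹)) * g := by rw [h _ ((hn z).1 hz)]
        _ = _ := by group
  have hQn : normalizer (Z : Set G) ≤ normalizer (Q : Set G) :=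
    hNC.trans (LEBasic.le_normalizer_map_of_characteristic Components.generalizedFitting_characteristic)
  have hF3 : IsPGroup 3 F := IsPGroup.of_card hQc
  -- the 3-elements of the quotient
  have hKn : K.Normal := Components.generalizedFitting_normal
  have h3K : ∀ {x : ↥C ⧸ F} {n : ℕ}, x ^ 3 ^ n = 1 → x ∈ K := fun h =>
    three_mem eK Components.centralizer_generalizedFitting_le h
  -- the Sylow subgroup
  set T := (S : Subgroup ↥C).map C.subtype with hT
  have hTC : T ≤ C := map_subtype_le _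
  have hFS : F ≤ (S : Subgroup ↥C) := LEBasic.normal_le_sylow hF3 S
  have hQT : Q ≤ T := map_mono hFS
  have hTN : T ≤ normalizer (Z : Set G) := hTC.trans hCN
  have hcardS : Nat.card (S : Subgroup ↥C) = 729 := by
    have hI : Nat.card ((S : Subgroup ↥C).map π) ∣ 3 := by
      have hle : (S : Subgroup ↥C).map π ≤ K := by
        rintro _ ⟨s, hs, rfl⟩
        obtain ⟨n, hn⟩ := S.isPGroup' ⟨s, hs⟩
        refine h3K (n := n) ?_
        rw [← map_pow, show s ^ 3 ^ n = 1 from congrArg Subtype.val hn, map_one]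
      have h120 := card_dvd_of_le hle
      rw [Nat.card_congr eK.toEquiv, Nat.card_eq_fintype_card (α := S25), card25] at h120
      obtain ⟨n, hn⟩ := IsPGroup.iff_card.1 (S.isPGroup'.map π)
      rw [hn] at h120 ⊢
      by_contra h
      have h2 : 2 ≤ n := by
        by_contra hh
        interval_cases n <;> norm_num at h
      have := (pow_dvd_pow 3 h2).trans h120
      norm_num at this
    have hprod : Nat.card (S : Subgroup ↥C) = 243 * Nat.card ((S : Subgroup ↥C).map π) := by
      rw [← relIndex_ker, hπ, QuotientGroup.ker_mk']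
      have h := (F.subgroupOf (S : Subgroup ↥C)).card_mul_index
      rw [Nat.card_congr (subgroupOfEquivOfLe hFS).toEquiv, hQc] at h
      rw [← h]
      norm_num [relIndex]
    have hJ27 : ¬ J ≤ Q := fun hle => by
      haveI : IsMulCommutative (J.subgroupOf Q) :=
        ⟨⟨fun a b => Subtype.ext (Subtype.ext (hJc _ a.2 _ b.2))⟩⟩
      have h := FGBasics.XS.card_abelian_sq_le hexQ (J.subgroupOf Q) inferInstance
      rw [Nat.card_congr (subgroupOfEquivOfLe hle).toEquiv, hQc', hJ] at h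
      norm_num at h
    rcases (Nat.dvd_prime Nat.prime_three).1 hI with h | h
    · exfalso
      apply hJ27
      intro j hj
      obtain ⟨s, hs, rfl⟩ := hJS hj
      refine mQ.2 ((QuotientGroup.eq_one_iff s).1 ?_)
      exact mem_bot.1 (eq_bot_of_card_eq _ h ▸ mem_map_of_mem π hs)
    · rw [hprod, h]
  have hcardT : Nat.card T = 729 := by rw [hT, card_map_of_injective C.subtype_injective, hcardS]
  have hC7 : ¬ 2187 ∣ Nat.card ↥C := fun h => by
    obtain ⟨P, hP⟩ := Sylow.exists_subgroup_card_pow_prime 3 (show 3 ^ 7 ∣ Nat.card ↥C from h)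
    have h1 := (Nat.prime_three.pow_dvd_iff_le_factorization Nat.card_pos.ne').1 (show 3 ^ 7 ∣ Nat.card ↥C from h)
    have h2 := S.card_eq_multiplicity
    rw [hcardS, show (729 : ℕ) = 3 ^ 6 from rfl] at h2
    have := Nat.pow_right_injective (by norm_num : 2 ≤ 3) h2
    omega
  have hnd : ¬ 2187 ∣ Nat.card G := fun h => by
    obtain ⟨P, hP, hTP⟩ := Sylow.exists_subgroup_card_pow_succ (p := 3) (n := 6)
      (show 3 ^ (6 + 1) ∣ Nat.card G from h) (H := T) (by rw [hcardT]; norm_num)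
    have hPp : IsPGroup 3 P := IsPGroup.of_card hP
    haveI := hPp.isNilpotent
    have hidx : (T.subgroupOf P).index = 3 := by
      have h1 := (T.subgroupOf P).card_mul_index
      rw [Nat.card_congr (subgroupOfEquivOfLe hTP).toEquiv, hcardT, hP] at h1
      norm_num at h1 ⊢
      omega
    have hPT : P ≤ normalizer (T : Set G) := by
      have hne : T.subgroupOf P ≠ ⊤ := fun e => by rw [e, index_top] at hidx; norm_num at hidx
      have hlt := Group.normalizerCondition_of_isNilpotent (G := P) (T.subgroupOf P) hne.lt_top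
      have htop : normalizer ((T.subgroupOf P : Subgroup P) : Set P) = ⊤ := by
        rw [← index_eq_one]
        have hd := index_dvd_of_le hlt.le
        rw [hidx] at hd
        rcases (Nat.dvd_prime Nat.prime_three).1 hd with e | e
        · exact e
        · exfalso
          refine hlt.ne (eq_of_le_of_card_ge hlt.le ?_)
          have a := (T.subgroupOf P).card_mul_index
          have b := (normalizer ((T.subgroupOf P : Subgroup P) : Set P)).card_mul_index
          rw [e] at b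
          rw [hidx] at a
          omega
      intro g hg
      refine mem_normalizer_iff.2 fun x => ?_
      have hmem := mem_normalizer_iff.1 (htop ▸ mem_top (⟨g, hg⟩ : P))
      constructor
      · intro hx
        exact (hmem ⟨x, hTP hx⟩).1 hx
      · intro hx
        have hxP : x ∈ P := by
          have := mul_mem (mul_mem (inv_mem hg) (hTP hx)) hg
          simpa [mul_assoc] using this
        exact (hmem ⟨x, hxP⟩).2 hx
    -- the normaliser of `T` normalises its centre `Z`
    have hPN : P ≤ normalizer (Z : Set G) := by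
      intro g hg
      have hn := mem_normalizer_iff.1 (hPT hg)
      refine mem_normalizer_iff_map_conj_eq.2 (eq_of_le_of_card_ge ?_
        (card_map_of_injective (MulAut.conj g).injective).ge)
      rintro _ ⟨z, hz, rfl⟩
      show g * z * g⁻¹ ∈ Z
      have hc : ∀ q ∈ Q, g * z * g⁻¹ * q = q * (g * z * g⁻¹) := by
        intro q hq
        have hq' : g⁻¹ * q * g ∈ T := (hn _).2 (by simpa [mul_assoc] using hQT hq)
        have h1 : z * (g⁻¹ * q * g) = (g⁻¹ * q * g) * z :=
          mC.1 (hTC hq') z hz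
        calc g * z * g⁻¹ * q = g * (z * (g⁻¹ * q * g)) * g⁻¹ := by group
          _ = g * ((g⁻¹ * q * g) * z) * g⁻¹ := by rw [h1]
          _ = _ := by group
      exact (hZc _).2 ⟨hcQ _ hc, hc⟩
    have hPC : P ≤ C := fun g hg => by
      obtain ⟨n, hn⟩ := hPp ⟨g, hg⟩
      exact hCdef ▸ three_fixes hZ (hPN hg) (congrArg Subtype.val hn)
    have := card_dvd_of_le hPC
    rw [hP] at this
    exact hC7 this
  -- the map on the 3-elements of the normaliser of `Z`
  set L := threeGen (normalizer (Z : Set G)) with hL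
  have hLC : L ≤ C := (closure_le _).2 fun g ⟨hg, k, hk⟩ =>
    hCdef ▸ three_fixes hZ hg (hk ▸ pow_orderOf_eq_one g)
  have hLK : ∀ x : L, π ⟨x, hLC x.2⟩ ∈ K := by
    have hle : L ≤ (K.comap π).map C.subtype := (closure_le _).2 fun g ⟨hg, k, hk⟩ => by
      have hg3 : g ^ 3 ^ k = 1 := hk ▸ pow_orderOf_eq_one g
      refine ⟨⟨g, hCdef ▸ three_fixes hZ hg hg3⟩, h3K (n := k) ?_, rfl⟩
      rw [← map_pow, show (⟨g, hCdef ▸ three_fixes hZ hg hg3⟩ : C) ^ 3 ^ k = 1 from Subtype.ext hg3, map_one]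
    intro x
    obtain ⟨y, hy, e⟩ := hle x.2
    rwa [show (⟨x, hLC x.2⟩ : C) = y from Subtype.ext e.symm]
  let pi : L →* S25 := eK.toMonoidHom.comp ((π.comp (inclusion hLC)).codRestrict K hLK)
  have hpik : ∀ x : L, pi x = 1 ↔ (x : G) ∈ Q := fun x => by
    show eK ⟨π ⟨x, hLC x.2⟩, hLK x⟩ = 1 ↔ _
    rw [EmbeddingLike.map_eq_one_iff, ← OneMemClass.coe_eq_one]
    show QuotientGroup.mk' F (⟨x, hLC x.2⟩ : C) = 1 ↔ _
    rw [QuotientGroup.mk'_apply, QuotientGroup.eq_one_iff]
    exact (mQ (x := ⟨x, hLC x.2⟩)).symm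
  have hpi3 : ∀ a : S25, a ^ 3 = 1 → ∃ x : L, pi x = a := by
    intro a ha
    obtain ⟨m, hm⟩ := QuotientGroup.mk'_surjective F ((eK.symm a : K) : ↥C ⧸ F)
    have h3 : m ^ 3 ∈ F := by
      rw [← QuotientGroup.eq_one_iff, ← QuotientGroup.mk'_apply, map_pow, hm, ← SubmonoidClass.coe_pow,
        ← map_pow, ha, map_one]
      rfl
    have h9 : (m : G) ^ 3 ^ 2 = 1 := by
      have := congrArg Subtype.val (hexp _ h3)
      rwa [← pow_mul, coe_pow, OneMemClass.coe_one] at this
    refine ⟨⟨m, mem_threeGen (hCN m.2) h9⟩, ?_⟩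
    show eK ⟨π m, _⟩ = a
    rw [← eK.apply_symm_apply a]
    exact congrArg eK (Subtype.ext hm)
  have hpi : Function.Surjective pi := fun a => by
    obtain ⟨x, hx, y, hy, z, hz, rfl⟩ := three25_gen a
    obtain ⟨x', rfl⟩ := hpi3 x hx
    obtain ⟨y', rfl⟩ := hpi3 y hy
    obtain ⟨z', rfl⟩ := hpi3 z hz
    exact ⟨x' * y' * z', by rw [map_mul, map_mul]⟩
  -- the map on the 3-elements of the normaliser of `J`
  set N := normalizer (J : Set G) with hN
  set ρ := QuotientGroup.mk' (J.subgroupOf N) with hρ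
  set W := closure {x : ↥N ⧸ J.subgroupOf N | ∃ k : ℕ, orderOf x = 3 ^ k}
  have hMW : ∀ x : threeGen N, ρ (inclusion (threeGen_le N) x) ∈ W := by
    have hle : threeGen N ≤ (W.comap ρ).map N.subtype := (closure_le _).2 fun g ⟨hg, k, hk⟩ => by
      refine ⟨⟨g, hg⟩, subset_closure ?_, rfl⟩
      have hd : orderOf (ρ ⟨g, hg⟩) ∣ 3 ^ k := by
        rw [← hk, ← Subgroup.orderOf_mk g hg]; exact orderOf_map_dvd ρ _
      obtain ⟨i, -, hi⟩ := (Nat.dvd_prime_pow Nat.prime_three).1 hd
      exact ⟨i, hi⟩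
    intro x
    obtain ⟨y, hy, e⟩ := hle x.2
    rwa [show inclusion (threeGen_le N) x = y from Subtype.ext e.symm]
  let phi0 : threeGen N →* W := (ρ.comp (inclusion (threeGen_le N))).codRestrict W hMW
  have hphi0 : Function.Surjective phi0 := by
    intro w
    have hle : W ≤ ((threeGen N).subgroupOf N).map ρ := (closure_le _).2 fun y ⟨k, hk⟩ => by
      obtain ⟨m, rfl⟩ := QuotientGroup.mk'_surjective _ y
      refine ⟨m, ?_, rfl⟩
      have h : m ^ 3 ^ k ∈ J.subgroupOf N := by
        rw [← QuotientGroup.eq_one_iff, ← QuotientGroup.mk'_apply, map_pow, ← hρ, ← hk, pow_orderOf_eq_one]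
      refine mem_threeGen (n := k + 1) m.2 ?_
      have h' := hJe _ h
      rwa [map_pow, ← pow_mul, ← pow_succ] at h'
    obtain ⟨m, hm, e⟩ := hle w.2
    exact ⟨⟨m, hm⟩, Subtype.ext e⟩
  refine conf_nonempty Z Q T J hZ hQc' hcardT (by rw [hJ]; norm_num) hnd hexQ hexpQ hZc hcQ
    (fun g hg q hq => (mem_normalizer_iff.1 (hQn hg) q).1 hq) hTN hJS hJc hJe pi hpi hpik
    (eA.toMonoidHom.comp phi0) (eA.surjective.comp hphi0) fun x => ?_
  show eA (phi0 x) = 1 ↔ _
  rw [EmbeddingLike.map_eq_one_iff, ← OneMemClass.coe_eq_one]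
  show ρ (inclusion (threeGen_le N) x) = 1 ↔ _
  rw [hρ, QuotientGroup.mk'_apply, QuotientGroup.eq_one_iff]
  rfl

end Cfsg.Agent.McLThreeWrap
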